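import Cfsg.Agent.Lib.Coherence.Signed
import Cfsg.Agent.Lib.CharTheory.Linear
import Cfsg.Agent.Lib.CharTheory.Degree
import Cfsg.Agent.Lib.Frobenius.Induce

/-!
# Two trivial intersection families with disjoint supports

A linear character `θ` of a subgroup `H`, inverted by an involution `w` outside `H`, whose support
`{θ ≠ 1}` is a trivial intersection set with normaliser in `H ∪ Hw`, gives a generalised character
of norm three.  Two such families with disjoint supports share a constituent, and counting pairs of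
involutions determines the degree of that constituent.
-/

set_option autoImplicit false
set_option linter.unusedSectionVars false

open scoped ComplexConjugate
open Cfsg CfsgLib CfsgLib.CharTheory CfsgLib.Coherence

namespace CfsgLib.Jordan.SD

universe u

variable {G : Type u} [Group G] [Fintype G]

/-- The data of a trivial intersection family. -/
structure TIFamily (G : Type u) [Group G] (z : G) where
  H : Subgroup G
  w : G
  θ : H →* ℂˣ
  w_sq : w * w = 1
  w_not_mem : w ∉ H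
  w_norm : ∀ h ∈ H, w * h * w ∈ H
  θ_w : ∀ h : H, θ ⟨w * h * w, w_norm h h.2⟩ = (θ h)⁻¹
  θ_sq : ∃ h : H, θ h * θ h ≠ 1
  ti : ∀ (g : G) (h : H), θ h ≠ 1 → ∀ hm : g * h * g⁻¹ ∈ H, θ ⟨g * h * g⁻¹, hm⟩ ≠ 1 →
    g ∈ H ∨ g * w ∈ H
  inv_class : ∀ h : H, IsConj z (h : G) → θ h = 1

namespace TIFamily

variable {z : G} (F : TIFamily G z)

/-- The class function `θ - 1` on `H`. -/
noncomputable def fn : F.H → ℂ := fun h => (F.θ h : ℂ) - 1

/-- The induced generalised character. -/
noncomputable def psi : G → ℂ := Cfsg.indFun F.H F.fn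

open scoped Classical in
/-- The conjugates of `z` in the coset `Hw`. -/
noncomputable def invs : Finset G := Finset.univ.filter fun a => IsConj z a ∧ a * F.w ∈ F.H

theorem θ_conj (h : F.H) : conj (F.θ h : ℂ) = ((F.θ h)⁻¹ : ℂˣ) := by
  rw [← IsIrrCharacter.inv (isIrrCharacter_linear F.θ) h, map_inv]

theorem fn_isClassFunction : IsClassFunction F.H F.fn := fun g h => by
  simp only [fn, map_mul, map_inv, mul_inv_cancel_comm]

theorem θ_ne_one : F.θ ≠ 1 := fun e => by
  obtain ⟨h, hh⟩ := F.θ_sq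
  rw [e] at hh
  simp at hh

theorem θ_mul_ne_one : F.θ * F.θ ≠ 1 := fun e => by
  obtain ⟨h, hh⟩ := F.θ_sq
  exact hh (DFunLike.congr_fun e h)

theorem θ_inv_ne_one : F.θ⁻¹ ≠ 1 := fun e => F.θ_ne_one
  (MonoidHom.ext fun k => inv_eq_one.1 (DFunLike.congr_fun e k))

omit [Fintype G] in
theorem sum_hom {K : Type*} [Group K] [Fintype K] {μ : K →* ℂˣ} (h : μ ≠ 1) :
    ∑ k : K, (μ k : ℂ) = 0 := by
  classical
  have h' := sum_hom_units ((Units.coeHom ℂ).comp μ)
  simp only [MonoidHom.coe_comp, Function.comp_apply, Units.coeHom_apply] at h'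
  rw [h', if_neg fun e => h (MonoidHom.ext fun c => Units.ext (DFunLike.congr_fun e c)),
    Nat.cast_zero]

theorem sum_θ [Fintype F.H] : ∑ h : F.H, (F.θ h : ℂ) = 0 := sum_hom F.θ_ne_one

theorem inner_one : classInner F.psi (fun _ => (1 : ℂ)) = -1 := by
  classical
  rw [psi, Frobenius.classInner_indFun F.H _ _ fun _ _ => rfl]
  simp only [classInner, fn, map_one, mul_one, Finset.sum_sub_distrib, sum_hom F.θ_ne_one,
    Finset.sum_const, Finset.card_univ, nsmul_eq_mul, ← Nat.card_eq_fintype_card, zero_sub,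
    mul_neg]
  rw [inv_mul_cancel₀ (Nat.cast_ne_zero.2 Nat.card_pos.ne')]

theorem conj_w (h : F.H) : F.w⁻¹ * (h : G) * F.w = F.w * h * F.w := by
  rw [inv_eq_of_mul_eq_one_right F.w_sq]

/-- The value of the induced character on the support. -/
theorem psi_apply (h : F.H) (hh : F.θ h ≠ 1) :
    F.psi h = (F.θ h : ℂ) - 1 + (((F.θ h)⁻¹ : ℂˣ) : ℂ) - 1 := by
  classical
  set A := Finset.univ.filter fun x : G => x ∈ F.H
  set B := Finset.univ.filter fun x : G => x * F.w ∈ F.H
  have hAB : ∀ x : G, x ∈ F.H → x * F.w ∉ F.H := fun x hx hxw =>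
    F.w_not_mem (by simpa using F.H.mul_mem (F.H.inv_mem hx) hxw)
  have hval : ∀ x : G, Cfsg.extendByZero F.H F.fn (x⁻¹ * h * x) =
      (if x ∈ F.H then (F.θ h : ℂ) - 1 else 0) +
        (if x * F.w ∈ F.H then (((F.θ h)⁻¹ : ℂˣ) : ℂ) - 1 else 0) := by
    intro x
    by_cases hx : x ∈ F.H
    · rw [if_pos hx, if_neg (hAB x hx), add_zero]
      have := Frobenius.extendByZero_conj_mem F.H F.fn F.fn_isClassFunction (h : G) (inv_mem hx)
      rw [inv_inv, Frobenius.extendByZero_coe] at this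
      exact this
    rw [if_neg hx, zero_add]
    by_cases hxw : x * F.w ∈ F.H
    · rw [if_pos hxw]
      have e : x⁻¹ * h * x = F.w * ((x * F.w)⁻¹ * h * (x * F.w)) * F.w := by
        rw [mul_inv_rev, inv_eq_of_mul_eq_one_right F.w_sq]
        simp only [← mul_assoc, F.w_sq, one_mul]
        rw [mul_assoc _ F.w F.w, F.w_sq, mul_one]
      have hy : (x * F.w)⁻¹ * h * (x * F.w) ∈ F.H :=
        mul_mem (mul_mem (inv_mem hxw) h.2) hxw
      rw [e, Frobenius.extendByZero_of_mem _ _ (F.w_norm _ hy)]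
      show (F.θ ⟨_, _⟩ : ℂ) - 1 = _
      rw [F.θ_w ⟨_, hy⟩]
      have : (⟨(x * F.w)⁻¹ * h * (x * F.w), hy⟩ : F.H) = ⟨_, hxw⟩⁻¹ * h * ⟨_, hxw⟩ := rfl
      rw [this, map_mul, map_mul, map_inv, mul_comm (F.θ ⟨_, hxw⟩)⁻¹, inv_mul_cancel_right]
    rw [if_neg hxw]
    by_cases hm : x⁻¹ * h * x ∈ F.H
    · rw [Frobenius.extendByZero_of_mem _ _ hm]
      by_contra hne
      have hm' : x⁻¹ * h * x⁻¹⁻¹ ∈ F.H := by rwa [inv_inv]
      rcases F.ti x⁻¹ h hh hm' (fun e => hne (by
        show (F.θ _ : ℂ) - 1 = 0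
        have e' : (⟨x⁻¹ * h * x, hm⟩ : F.H) = ⟨x⁻¹ * h * x⁻¹⁻¹, hm'⟩ :=
          Subtype.ext (show x⁻¹ * (h : G) * x = x⁻¹ * h * x⁻¹⁻¹ by simp only [inv_inv])
        rw [e', e, Units.val_one, sub_self])) with h1 | h1
      · exact hx (by simpa using inv_mem h1)
      · refine hxw ?_
        have h2 := F.w_norm _ (inv_mem h1)
        rwa [mul_inv_rev, inv_inv, inv_eq_of_mul_eq_one_right F.w_sq, ← mul_assoc, F.w_sq,
          one_mul] at h2
    · exact Frobenius.extendByZero_of_not_mem _ _ hm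
  have hA : A.card = Nat.card F.H := by rw [Nat.card_eq_fintype_card, Fintype.card_subtype]
  have hB : B.card = Nat.card F.H := by
    rw [← hA]
    refine Finset.card_equiv (Equiv.mulRight F.w) fun x => ?_
    simp [A, B]
  simp only [psi, Cfsg.indFun, hval, Finset.sum_add_distrib, Finset.sum_ite, Finset.sum_const_zero,
    add_zero, Finset.sum_const, nsmul_eq_mul]
  change (Nat.card F.H : ℂ)⁻¹ * ((A.card : ℂ) * _ + (B.card : ℂ) * _) = _
  rw [hA, hB, ← mul_add, ← mul_assoc, inv_mul_cancel₀ (Nat.cast_ne_zero.2 Nat.card_pos.ne'),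
    one_mul]
  ring

theorem inner_self : classInner F.psi F.psi = 3 := by
  classical
  have hcf : IsClassFunction G F.psi := Frobenius.indFun_isClassFunction _ _
  nth_rw 1 [psi]
  rw [Frobenius.classInner_indFun F.H _ _ hcf]
  have key : ∀ h : F.H, F.fn h * conj (F.psi h) =
      3 + ((F.θ * F.θ) h : ℂ) - 3 * (F.θ h : ℂ) - ((F.θ⁻¹) h : ℂ) := by
    intro h
    have hv : ((F.θ h : ℂ)) * (((F.θ h)⁻¹ : ℂˣ) : ℂ) = 1 := Units.mul_inv _
    simp only [MonoidHom.mul_apply, MonoidHom.inv_apply, Units.val_mul, fn]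
    by_cases hh : F.θ h = 1
    · rw [hh]; simp
    · have hci : conj ((((F.θ h)⁻¹ : ℂˣ)) : ℂ) = (F.θ h : ℂ) := by
        rw [← F.θ_conj, Complex.conj_conj]
      rw [F.psi_apply h hh]
      simp only [map_sub, map_add, map_one, F.θ_conj, hci]
      linear_combination hv
  simp only [classInner, key, Finset.sum_sub_distrib, Finset.sum_add_distrib, ← Finset.mul_sum,
    sum_hom F.θ_mul_ne_one, sum_hom F.θ_inv_ne_one, F.sum_θ, mul_zero, add_zero, sub_zero,
    Finset.sum_const, Finset.card_univ, nsmul_eq_mul, ← Nat.card_eq_fintype_card]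
  rw [inv_mul_cancel_left₀ (Nat.cast_ne_zero.2 Nat.card_pos.ne')]

theorem psi_one : F.psi 1 = 0 := by
  rw [psi, Frobenius.indFun_one]
  simp [fn]

theorem psi_z : F.psi z = 0 := by
  classical
  simp only [psi, Cfsg.indFun]
  rw [Finset.sum_eq_zero, mul_zero]
  intro x _
  by_cases hm : x⁻¹ * z * x ∈ F.H
  · rw [Frobenius.extendByZero_of_mem _ _ hm]
    have := F.inv_class ⟨_, hm⟩ (isConj_iff.2 ⟨x⁻¹, by simp⟩)
    simp [fn, this]
  · exact Frobenius.extendByZero_of_not_mem _ _ hm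

/-- Two families with disjoint supports have orthogonal induced characters. -/
theorem inner_disjoint (F' : TIFamily G z)
    (hdis : ∀ (g : G) (h : F.H), F.θ h ≠ 1 → ∀ hm : g * h * g⁻¹ ∈ F'.H,
      F'.θ ⟨g * h * g⁻¹, hm⟩ = 1) :
    classInner F.psi F'.psi = 0 := by
  classical
  have hcf : IsClassFunction G F'.psi := Frobenius.indFun_isClassFunction _ _
  rw [psi, Frobenius.classInner_indFun F.H _ _ hcf]
  simp only [classInner]
  rw [Finset.sum_eq_zero, mul_zero]
  intro h _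
  by_cases hh : F.θ h = 1
  · simp [fn, hh]
  · have : F'.psi h = 0 := by
      simp only [psi, Cfsg.indFun]
      rw [Finset.sum_eq_zero, mul_zero]
      intro x _
      by_cases hm : x⁻¹ * (h : G) * x ∈ F'.H
      · rw [Frobenius.extendByZero_of_mem _ _ hm]
        have hm' : x⁻¹ * (h : G) * x⁻¹⁻¹ ∈ F'.H := by rwa [inv_inv]
        have e' : (⟨x⁻¹ * h * x, hm⟩ : F'.H) = ⟨x⁻¹ * h * x⁻¹⁻¹, hm'⟩ :=
          Subtype.ext (show x⁻¹ * (h : G) * x = x⁻¹ * h * x⁻¹⁻¹ by simp only [inv_inv])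
        show (F'.θ _ : ℂ) - 1 = 0
        rw [e', hdis x⁻¹ h hh hm', Units.val_one, sub_self]
      · exact Frobenius.extendByZero_of_not_mem _ _ hm
    rw [this, map_zero, mul_zero]

open scoped Classical in
/-- The conjugates of `z`. -/
noncomputable def cls (z : G) : Finset G := Finset.univ.filter fun a => IsConj z a

theorem mul_self_of_cls (hz : z * z = 1) {a : G} (ha : IsConj z a) : a * a = 1 := by
  obtain ⟨c, rfl⟩ := isConj_iff.1 ha
  calc c * z * c⁻¹ * (c * z * c⁻¹) = c * (z * z) * c⁻¹ := by group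
    _ = 1 := by rw [hz, mul_one, mul_inv_cancel]

/-- Only pairs in `Hw` contribute. -/
theorem mem_invs_of_pair (hz : z * z = 1) {a b : G} (ha : IsConj z a) (hb : IsConj z b)
    (hm : a * b ∈ F.H) (hne : F.θ ⟨a * b, hm⟩ ≠ 1) : a * F.w ∈ F.H ∧ b * F.w ∈ F.H := by
  have ha2 := mul_self_of_cls hz ha
  have hb2 := mul_self_of_cls hz hb
  have hinv : a * (a * b) * a⁻¹ = (a * b)⁻¹ := by
    rw [mul_inv_rev, inv_eq_of_mul_eq_one_right ha2, inv_eq_of_mul_eq_one_right hb2, ← mul_assoc,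
      ha2, one_mul]
  have hm' : a * (a * b) * a⁻¹ ∈ F.H := by rw [hinv]; exact inv_mem hm
  have hne' : F.θ ⟨a * (a * b) * a⁻¹, hm'⟩ ≠ 1 := by
    have e : (⟨a * (a * b) * a⁻¹, hm'⟩ : F.H) = (⟨a * b, hm⟩ : F.H)⁻¹ := Subtype.ext hinv
    rw [e, map_inv]
    exact fun h => hne (inv_eq_one.1 h)
  rcases F.ti a ⟨a * b, hm⟩ hne hm' hne' with h | h
  · exfalso
    have hbH : b ∈ F.H := by simpa using mul_mem (inv_mem h) hm
    refine hne ?_
    have e : (⟨a * b, hm⟩ : F.H) = ⟨a, h⟩ * ⟨b, hbH⟩ := rfl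
    rw [e, map_mul, F.inv_class ⟨a, h⟩ ha, F.inv_class ⟨b, hbH⟩ hb, one_mul]
  · refine ⟨h, ?_⟩
    have h1 := F.w_norm _ (mul_mem (inv_mem h) hm)
    rw [mul_inv_rev, inv_eq_of_mul_eq_one_right ha2, inv_eq_of_mul_eq_one_right F.w_sq] at h1
    have e : F.w * (F.w * a * (a * b)) * F.w = b * F.w := by
      simp only [← mul_assoc, F.w_sq, one_mul, ha2]
    rwa [e] at h1

open scoped Classical in
theorem ext_pair (hz : z * z = 1) (a b : G) (ha : a ∈ cls z) (hb : b ∈ cls z) :
    Cfsg.extendByZero F.H F.fn (a * b) =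
      if h : a * F.w ∈ F.H ∧ b * F.w ∈ F.H then
        (F.θ ⟨_, h.1⟩ : ℂ) * (((F.θ ⟨_, h.2⟩)⁻¹ : ℂˣ) : ℂ) - 1 else 0 := by
  classical
  simp only [cls, Finset.mem_filter, Finset.mem_univ, true_and] at ha hb
  split_ifs with h
  · have hw : F.w * (b * F.w) * F.w = F.w * b := by
      rw [mul_assoc, mul_assoc b, F.w_sq, mul_one]
    have hwb : F.w * b ∈ F.H := hw ▸ F.w_norm _ h.2
    have e : a * b = (a * F.w) * (F.w * b) := by
      rw [mul_assoc, ← mul_assoc F.w, F.w_sq, one_mul]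
    rw [e, Frobenius.extendByZero_of_mem _ _ (mul_mem h.1 hwb)]
    show (F.θ (⟨_, h.1⟩ * ⟨_, hwb⟩) : ℂ) - 1 = _
    have e2 : (⟨F.w * b, hwb⟩ : F.H) = ⟨_, F.w_norm _ h.2⟩ := Subtype.ext hw.symm
    rw [map_mul, e2, F.θ_w ⟨_, h.2⟩, Units.val_mul]
  · by_cases hm : a * b ∈ F.H
    · rw [Frobenius.extendByZero_of_mem _ _ hm]
      by_contra hne
      exact h (F.mem_invs_of_pair hz ha hb hm fun e => hne (by simp [fn, e]))
    · exact Frobenius.extendByZero_of_not_mem _ _ hm

theorem invs_subset : F.invs ⊆ cls z := fun a ha => by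
  simp only [invs, cls, Finset.mem_filter, Finset.mem_univ, true_and] at ha ⊢
  exact ha.1

open scoped Classical in
/-- The linear character evaluated on the coset. -/
noncomputable def val (a : G) : ℂ :=
  if h : a * F.w ∈ F.H then (F.θ ⟨_, h⟩ : ℂ) else 0

theorem sum_val : ∑ a ∈ F.invs, F.val a = 0 := by
  classical
  obtain ⟨k, hk⟩ := F.θ_sq
  have hkey : ∑ a ∈ F.invs, F.val a = ((F.θ k * F.θ k : ℂˣ) : ℂ) * ∑ a ∈ F.invs, F.val a := by
    rw [Finset.mul_sum]
    symm
    refine Finset.sum_equiv (MulAut.conj (k : G)).toEquiv (fun a => ?_) fun a ha => ?_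
    · have hiff : ∀ (y : G) (c : G) (hc : c ∈ F.H), y * F.w ∈ F.H → c * y * c⁻¹ * F.w ∈ F.H := by
        intro y c hc hy
        have h1 := F.w_norm _ (inv_mem hc)
        have e : c * y * c⁻¹ * F.w = c * (y * F.w) * (F.w * c⁻¹ * F.w) := by
          simp only [← mul_assoc]
          rw [mul_assoc (c * y) F.w F.w, F.w_sq, mul_one]
        rw [e]
        exact mul_mem (mul_mem hc hy) h1
      simp only [invs, Finset.mem_filter, Finset.mem_univ, true_and, MulEquiv.toEquiv_eq_coe,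
        EquivLike.coe_coe, MulAut.conj_apply]
      constructor
      · rintro ⟨h1, h2⟩
        exact ⟨h1.trans (isConj_iff.2 ⟨(k : G), rfl⟩), hiff a k k.2 h2⟩
      · rintro ⟨h1, h2⟩
        refine ⟨h1.trans (isConj_iff.2 ⟨(k : G)⁻¹, by simp [mul_assoc]⟩), ?_⟩
        simpa [mul_assoc] using hiff _ _ (inv_mem k.2) h2
    · simp only [invs, Finset.mem_filter, Finset.mem_univ, true_and] at ha
      show _ = F.val ((k : G) * a * (k : G)⁻¹)
      simp only [val, dif_pos ha.2]
      have h1 := F.w_norm _ (inv_mem k.2)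
      have e : (k : G) * a * (k : G)⁻¹ * F.w = (k : G) * (a * F.w) * (F.w * (k : G)⁻¹ * F.w) := by
        simp only [← mul_assoc]
        rw [mul_assoc ((k : G) * a) F.w F.w, F.w_sq, mul_one]
      have hm : (k : G) * a * (k : G)⁻¹ * F.w ∈ F.H := e ▸ mul_mem (mul_mem k.2 ha.2) h1
      rw [dif_pos hm]
      have e' : (⟨_, hm⟩ : F.H) = k * ⟨_, ha.2⟩ * ⟨_, F.w_norm _ (k⁻¹).2⟩ := Subtype.ext e
      rw [e', map_mul, map_mul, F.θ_w k⁻¹, map_inv, inv_inv, ← Units.val_mul, mul_right_comm]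
  have : (1 - ((F.θ k * F.θ k : ℂˣ) : ℂ)) * ∑ a ∈ F.invs, F.val a = 0 := by
    rw [sub_mul, one_mul, ← hkey, sub_self]
  rcases mul_eq_zero.1 this with h | h
  · exact absurd (Units.ext (sub_eq_zero.1 h).symm) hk
  · exact h

/-- The sum of the induced character over the pairs of conjugates of `z`. -/
theorem sum_pairs (hz : z * z = 1) :
    (Nat.card F.H : ℂ) * ∑ a ∈ cls z, ∑ b ∈ cls z, F.psi (a * b) =
      -((Nat.card G : ℂ) * (F.invs.card : ℂ) ^ 2) := by
  classical
  have h1 : ∑ a ∈ cls z, ∑ b ∈ cls z, Cfsg.extendByZero F.H F.fn (a * b) =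
      -((F.invs.card : ℂ) ^ 2) := by
    have hstep : ∀ a ∈ cls z, ∀ b ∈ cls z, Cfsg.extendByZero F.H F.fn (a * b) =
        if a ∈ F.invs ∧ b ∈ F.invs then F.val a * conj (F.val b) - 1 else 0 := by
      intro a ha b hb
      rw [F.ext_pair hz a b ha hb]
      simp only [cls, invs, Finset.mem_filter, Finset.mem_univ, true_and] at ha hb ⊢
      by_cases h : a * F.w ∈ F.H ∧ b * F.w ∈ F.H
      · rw [dif_pos h, if_pos ⟨⟨ha, h.1⟩, hb, h.2⟩, val, val, dif_pos h.1, dif_pos h.2, F.θ_conj]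
      · rw [dif_neg h, if_neg fun e => h ⟨e.1.2, e.2.2⟩]
    rw [Finset.sum_congr rfl fun a ha => Finset.sum_congr rfl fun b hb => hstep a ha b hb]
    have h2 : ∀ a ∈ cls z, (∑ b ∈ cls z, if a ∈ F.invs ∧ b ∈ F.invs then
        F.val a * conj (F.val b) - 1 else 0) =
        if a ∈ F.invs then ∑ b ∈ F.invs, (F.val a * conj (F.val b) - 1) else 0 := by
      intro a _
      by_cases ha : a ∈ F.invs
      · rw [if_pos ha]
        simp only [ha, true_and]
        rw [← Finset.sum_filter]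
        refine Finset.sum_congr ?_ fun _ _ => rfl
        ext b
        simp only [Finset.mem_filter]
        exact ⟨And.right, fun h => ⟨F.invs_subset h, h⟩⟩
      · simp [ha]
    rw [Finset.sum_congr rfl h2, ← Finset.sum_filter,
      show (cls z).filter (fun a => a ∈ F.invs) = F.invs from by
        ext a; simp only [Finset.mem_filter]; exact ⟨And.right, fun h => ⟨F.invs_subset h, h⟩⟩]
    simp only [Finset.sum_sub_distrib, ← Finset.mul_sum, ← map_sum, F.sum_val, map_zero, mul_zero,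
      Finset.sum_const, nsmul_eq_mul, mul_one, Finset.sum_const_zero]
    ring
  have h2 : ∀ x : G, ∑ a ∈ cls z, ∑ b ∈ cls z, Cfsg.extendByZero F.H F.fn (x⁻¹ * (a * b) * x) =
      -((F.invs.card : ℂ) ^ 2) := by
    intro x
    rw [← h1]
    have hmem : ∀ a : G, a ∈ cls z ↔ (MulAut.conj x⁻¹).toEquiv a ∈ cls z := fun a => by
      have h : IsConj a ((MulAut.conj x⁻¹).toEquiv a) := isConj_iff.2 ⟨x⁻¹, by simp⟩
      simp only [cls, Finset.mem_filter, Finset.mem_univ, true_and]
      exact ⟨fun e => e.trans h, fun e => e.trans h.symm⟩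
    refine Finset.sum_equiv (MulAut.conj x⁻¹).toEquiv (fun a => hmem a) fun a _ => ?_
    refine Finset.sum_equiv (MulAut.conj x⁻¹).toEquiv (fun b => hmem b) fun b _ => ?_
    congr 1
    simp [mul_assoc]
  simp only [psi, Cfsg.indFun, ← Finset.mul_sum]
  have h3 : ∑ a ∈ cls z, ∑ b ∈ cls z, ∑ x : G,
      Cfsg.extendByZero F.H F.fn (x⁻¹ * (a * b) * x) =
      -((Nat.card G : ℂ) * (F.invs.card : ℂ) ^ 2) := by
    rw [Finset.sum_congr rfl fun a _ => Finset.sum_comm, Finset.sum_comm]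
    simp only [h2, Finset.sum_const, Finset.card_univ, nsmul_eq_mul, ← Nat.card_eq_fintype_card]
    ring
  rw [h3, mul_inv_cancel_left₀ (Nat.cast_ne_zero.2 Nat.card_pos.ne')]

end TIFamily

/-- An irreducible character summed over products of two conjugates of `z`. -/
theorem sum_pairs_irr {χ : G → ℂ} (hχ : IsIrrCharacter G χ) (z : G) :
    ∑ a ∈ TIFamily.cls z, ∑ b ∈ TIFamily.cls z, χ (a * b) =
      ((Subgroup.centralizer ({z} : Set G)).index : ℂ) ^ 2 * χ z ^ 2 / χ 1 := by
  classical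
  obtain ⟨n, ρ, hρ, rfl⟩ := hχ
  obtain ⟨c, -, hc, hcn⟩ := exists_classSum_eq_smul ρ z
  replace hc : (∑ x ∈ TIFamily.cls z, ρ x) = c • (LinearMap.id : (Fin n → ℂ) →ₗ[ℂ] _) := hc
  have hn : (Module.finrank ℂ (Fin n → ℂ) : ℂ) ≠ 0 := by
    exact_mod_cast (finrank_pos_of_isIrreducible ρ).ne'
  have h1 : ∑ x ∈ TIFamily.cls z, ∑ y ∈ TIFamily.cls z, ρ.character (x * y)
      = LinearMap.trace ℂ (Fin n → ℂ)
        ((∑ x ∈ TIFamily.cls z, ρ x) * ∑ y ∈ TIFamily.cls z, ρ y) := by
    simp only [Finset.sum_mul, Finset.mul_sum, map_sum, Representation.character, map_mul]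
    rw [Finset.sum_comm]
  rw [h1, hc, ρ.char_one, ← Module.End.one_eq_id, smul_mul_smul_comm, one_mul, map_smul,
    LinearMap.trace_one, smul_eq_mul]
  rw [eq_div_iff hn, ← mul_pow, ← hcn]
  ring

theorem sum_pairs_signed {χ : G → ℂ} (hχ : IsIrrCharacter G χ ∨ IsIrrCharacter G (-χ)) (z : G) :
    ∑ a ∈ TIFamily.cls z, ∑ b ∈ TIFamily.cls z, χ (a * b) =
      ((Subgroup.centralizer ({z} : Set G)).index : ℂ) ^ 2 * χ z ^ 2 / χ 1 := by
  rcases hχ with h | h
  · exact sum_pairs_irr h z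
  · have := sum_pairs_irr h z
    simp only [Pi.neg_apply, Finset.sum_neg_distrib, neg_sq, div_neg, neg_inj] at this
    exact this

theorem inner_eq_zero_of_sum {a b c : G → ℂ} (ha : IsIrrCharacter G a ∨ IsIrrCharacter G (-a))
    (hc : IsIrrCharacter G c ∨ IsIrrCharacter G (-c)) (hab : classInner a b = 0)
    (h : classInner a c + classInner b c = 0) : classInner a c = 0 := by
  have hba : classInner b a = 0 := by rw [classInner_conj_symm, hab, map_zero]
  rcases signed_inner ha hc with h0 | ⟨e, hv⟩ | ⟨e, hv⟩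
  · exact h0
  · exfalso
    rw [hv, e, hba] at h; norm_num at h
  · exfalso
    rw [hv, e, Coherence.inner_neg_right, hba] at h; norm_num at h

theorem exists_degree_signed {a : G → ℂ} (hab : ∀ μ : G →* ℂˣ, μ = 1)
    (ha : IsIrrCharacter G a ∨ IsIrrCharacter G (-a))
    (h1 : classInner a (fun _ => (1 : ℂ)) = 0) :
    ∃ A : ℤ, 2 ≤ |A| ∧ a 1 = A := by
  have key : ∀ b : G → ℂ, IsIrrCharacter G b → classInner b (fun _ => (1 : ℂ)) = 0 →
      ∃ n : ℕ, 2 ≤ n ∧ b 1 = n := by
    intro b hb h0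
    obtain ⟨n, hn, e⟩ := exists_degree_of_isIrr hb
    refine ⟨n, ?_, e⟩
    by_contra hlt
    obtain rfl : n = 1 := by omega
    obtain ⟨μ, hμ⟩ := exists_hom_of_degree_one hb (by simpa using e)
    have hbeq : b = fun _ => (1 : ℂ) := by rw [hμ, hab μ]; rfl
    rw [hbeq, classInner_self_of_isIrr isIrrCharacter_one] at h0
    exact one_ne_zero h0
  rcases ha with h | h
  · obtain ⟨n, hn, e⟩ := key a h h1
    exact ⟨n, by rw [Nat.abs_cast]; exact_mod_cast hn, by rw [e]; simp⟩
  · obtain ⟨n, hn, e⟩ := key (-a) h (by rw [Coherence.inner_neg_left, h1, neg_zero])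
    refine ⟨-(n : ℤ), by rw [abs_neg, Nat.abs_cast]; exact_mod_cast hn, ?_⟩
    have e' : -(a 1) = (n : ℂ) := e
    push_cast
    rw [← e', neg_neg]

namespace TIFamily

variable {z : G} (F : TIFamily G z)

theorem exists_decomp : ∃ a b : G → ℂ, (IsIrrCharacter G a ∨ IsIrrCharacter G (-a)) ∧
    (IsIrrCharacter G b ∨ IsIrrCharacter G (-b)) ∧ classInner a b = 0 ∧
      classInner a (fun _ => (1 : ℂ)) = 0 ∧ classInner b (fun _ => (1 : ℂ)) = 0 ∧
        F.psi + (fun _ => (1 : ℂ)) = a + b := by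
  classical
  have hone : classInner (fun _ : G => (1 : ℂ)) (fun _ => (1 : ℂ)) = 1 :=
    classInner_self_of_isIrr isIrrCharacter_one
  have hg : IsGeneralizedCharacter G (F.psi + fun _ => (1 : ℂ)) := by
    refine isGeneralizedCharacter_add (Frobenius.isGeneralizedCharacter_indFun _ _ ?_)
      (IsIrrCharacter.isGeneralizedCharacter isIrrCharacter_one)
    rw [show F.fn = (fun h : F.H => (F.θ h : ℂ)) + -(fun _ => (1 : ℂ)) from
      funext fun h => by simp [fn, sub_eq_add_neg]]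
    exact isGeneralizedCharacter_add
      (IsIrrCharacter.isGeneralizedCharacter (isIrrCharacter_linear F.θ))
      (isGeneralizedCharacter_neg (IsIrrCharacter.isGeneralizedCharacter isIrrCharacter_one))
  have h1 : classInner (F.psi + fun _ => (1 : ℂ)) (fun _ => (1 : ℂ)) = 0 := by
    rw [Coherence.inner_add_left, F.inner_one, hone]; ring
  have h2 : classInner (F.psi + fun _ => (1 : ℂ)) (F.psi + fun _ => (1 : ℂ)) = ((2 : ℕ) : ℂ) := by
    rw [Coherence.inner_add_left, Coherence.inner_add_right, Coherence.inner_add_right, F.inner_self, F.inner_one,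
      classInner_conj_symm, F.inner_one, map_neg, map_one, hone]
    norm_num
  obtain ⟨s, hs, hsum, hsg, horth⟩ := exists_signed_decomp hg (by omega) h2
  obtain ⟨a, b, hab, rfl⟩ := Finset.card_eq_two.1 hs
  rw [Finset.sum_pair hab] at hsum
  have h0 := horth a (by simp) b (by simp)
  rw [if_neg hab] at h0
  have ha1 := inner_eq_zero_of_sum (hsg a (by simp)) (Or.inl isIrrCharacter_one) h0
    (by rw [← Coherence.inner_add_left, ← hsum]; exact h1)
  refine ⟨a, b, hsg a (by simp), hsg b (by simp), h0, ha1, ?_, hsum⟩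
  rw [hsum, Coherence.inner_add_left, ha1, zero_add] at h1
  exact h1

theorem equation (hz : z * z = 1) {a b : G → ℂ}
    (ha : IsIrrCharacter G a ∨ IsIrrCharacter G (-a))
    (hb : IsIrrCharacter G b ∨ IsIrrCharacter G (-b))
    (h : F.psi + (fun _ => (1 : ℂ)) = a + b) :
    ((Subgroup.centralizer ({z} : Set G)).index : ℂ) ^ 2 * (Nat.card F.H : ℂ) * (a z - a 1) ^ 2 =
      (Nat.card G : ℂ) * (F.invs.card : ℂ) ^ 2 * (a 1 * (a 1 - 1)) := by
  have h1 : a 1 + b 1 = 1 := by
    have := congrFun h 1; simp only [Pi.add_apply, F.psi_one, zero_add] at this; exact this.symm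
  have h2 : a z + b z = 1 := by
    have := congrFun h z; simp only [Pi.add_apply, F.psi_z, zero_add] at this; exact this.symm
  have hpsi : ∀ g, F.psi g = a g + b g - 1 := fun g => by
    have := congrFun h g; simp only [Pi.add_apply] at this; linear_combination this
  have hs := F.sum_pairs hz
  simp only [hpsi, Finset.sum_sub_distrib, Finset.sum_add_distrib, sum_pairs_signed ha,
    sum_pairs_signed hb] at hs
  have hone := sum_pairs_irr (isIrrCharacter_one (G := G)) z
  simp only [one_pow, mul_one, div_one] at hone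
  rw [hone] at hs
  have ha0 : a 1 ≠ 0 := signed_apply_one_ne_zero ha
  have hb0 : (1 : ℂ) - a 1 ≠ 0 := by
    rw [show (1 : ℂ) - a 1 = b 1 by linear_combination -h1]
    exact signed_apply_one_ne_zero hb
  rw [show b 1 = 1 - a 1 by linear_combination h1, show b z = 1 - a z by linear_combination h2] at hs
  field_simp at hs
  linear_combination hs

/-- The degree of the shared constituent of two families with disjoint supports. -/
theorem two_families (hab : ∀ μ : G →* ℂˣ, μ = 1) (hz : z * z = 1) (F' : TIFamily G z)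
    (hdis : ∀ (g : G) (h : F.H), F.θ h ≠ 1 → ∀ hm : g * h * g⁻¹ ∈ F'.H,
      F'.θ ⟨g * h * g⁻¹, hm⟩ = 1) :
    ∃ d : ℤ, 3 ≤ |d| ∧
      (F.invs.card : ℤ) ^ 2 * Nat.card F'.H * (d - 1) =
        (F'.invs.card : ℤ) ^ 2 * Nat.card F.H * (d + 1) := by
  obtain ⟨a, b, ha, hb, hab0, ha1, hb1, hF⟩ := F.exists_decomp
  obtain ⟨c, d, hc, hd, hcd0, hc1, hd1, hF'⟩ := F'.exists_decomp
  have hone : classInner (fun _ : G => (1 : ℂ)) (fun _ => (1 : ℂ)) = 1 :=
    classInner_self_of_isIrr isIrrCharacter_one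
  have hkey : classInner a c + classInner a d + (classInner b c + classInner b d) = -1 := by
    have : classInner (a + b) (c + d) = -1 := by
      rw [← hF, ← hF', Coherence.inner_add_left, Coherence.inner_add_right, Coherence.inner_add_right,
        F.inner_disjoint F' hdis, F.inner_one, classInner_conj_symm, F'.inner_one, map_neg,
        map_one, hone]
      ring
    rw [Coherence.inner_add_left, Coherence.inner_add_right, Coherence.inner_add_right] at this
    linear_combination this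
  suffices main : ∀ a b c d : G → ℂ, (IsIrrCharacter G a ∨ IsIrrCharacter G (-a)) →
      (IsIrrCharacter G b ∨ IsIrrCharacter G (-b)) →
      (IsIrrCharacter G c ∨ IsIrrCharacter G (-c)) →
      (IsIrrCharacter G d ∨ IsIrrCharacter G (-d)) →
      classInner a (fun _ => (1 : ℂ)) = 0 → classInner b (fun _ => (1 : ℂ)) = 0 →
      classInner d (fun _ => (1 : ℂ)) = 0 →
      F.psi + (fun _ => (1 : ℂ)) = a + b → F'.psi + (fun _ => (1 : ℂ)) = c + d →
      classInner a c = -1 → ∃ d : ℤ, 3 ≤ |d| ∧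
        (F.invs.card : ℤ) ^ 2 * Nat.card F'.H * (d - 1) =
          (F'.invs.card : ℤ) ^ 2 * Nat.card F.H * (d + 1) by
    rcases signed_inner ha hc with e1 | ⟨-, e1⟩ | ⟨-, e1⟩ <;>
      rcases signed_inner ha hd with e2 | ⟨-, e2⟩ | ⟨-, e2⟩ <;>
      rcases signed_inner hb hc with e3 | ⟨-, e3⟩ | ⟨-, e3⟩ <;>
      rcases signed_inner hb hd with e4 | ⟨-, e4⟩ | ⟨-, e4⟩ <;>
      first
        | exact main a b c d ha hb hc hd ha1 hb1 hd1 hF hF' e1
        | exact main a b d c ha hb hd hc ha1 hb1 hc1 hF (by rw [hF', add_comm]) e2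
        | exact main b a c d hb ha hc hd hb1 ha1 hd1 (by rw [hF, add_comm]) hF' e3
        | exact main b a d c hb ha hd hc hb1 ha1 hc1 (by rw [hF, add_comm]) (by rw [hF', add_comm]) e4
        | (exfalso; rw [e1, e2, e3, e4] at hkey; norm_num at hkey)
  intro a b c d ha hb hc hd ha1 hb1 hd1 hF hF' hac
  have hca : c = -a := signed_eq_neg_of_inner ha hc hac
  obtain ⟨A, hA2, hA⟩ := exists_degree_signed hab ha ha1
  obtain ⟨B, hB2, hB⟩ := exists_degree_signed hab hb hb1
  obtain ⟨D, hD2, hD⟩ := exists_degree_signed hab hd hd1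
  have e1 : a 1 + b 1 = 1 := by
    have := congrFun hF 1; simp only [Pi.add_apply, F.psi_one, zero_add] at this; exact this.symm
  have e2 : c 1 + d 1 = 1 := by
    have := congrFun hF' 1; simp only [Pi.add_apply, F'.psi_one, zero_add] at this; exact this.symm
  rw [hA, hB] at e1
  rw [hca, Pi.neg_apply, hA, hD] at e2
  have hB' : A + B = 1 := by exact_mod_cast e1
  have hD' : -A + D = 1 := by exact_mod_cast e2
  refine ⟨A, ?_, ?_⟩
  · rcases abs_cases A with ⟨p, q⟩ | ⟨p, q⟩ <;> rcases abs_cases B with ⟨p', q'⟩ | ⟨p', q'⟩ <;>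
      rcases abs_cases D with ⟨p'', q''⟩ | ⟨p'', q''⟩ <;> omega
  have q1 := F.equation hz ha hb hF
  have q2 := F'.equation hz hc hd hF'
  rw [hca, Pi.neg_apply, Pi.neg_apply, hA] at q2
  rw [hA] at q1
  have hne : (Nat.card G : ℂ) * (A : ℂ) ≠ 0 := mul_ne_zero (Nat.cast_ne_zero.2 Nat.card_pos.ne')
    (Int.cast_ne_zero.2 (by intro h; simp [h] at hA2))
  have : ((Nat.card G : ℂ) * (A : ℂ)) *
      ((F.invs.card : ℂ) ^ 2 * (Nat.card F'.H : ℂ) * ((A : ℂ) - 1) -
        (F'.invs.card : ℂ) ^ 2 * (Nat.card F.H : ℂ) * ((A : ℂ) + 1)) = 0 := by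
    linear_combination (Nat.card F.H : ℂ) * q2 - (Nat.card F'.H : ℂ) * q1
  have h0 := sub_eq_zero.1 ((mul_eq_zero.1 this).resolve_left hne)
  exact_mod_cast h0

end TIFamily

end CfsgLib.Jordan.SD
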