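import Cfsg.Agent.Lib.GW.AutLPSL
import Cfsg.Agent.Lib.Jordan.AlmostCyclic.PSLTwo

/-!
# The centralisers of an inner and of an outer involution in `PSL₂(p)`
-/

set_option autoImplicit false
set_option linter.unusedSectionVars false

namespace CfsgLib.Jordan.SD.Psl

open Matrix CfsgLib.ReflectionsSpinor.PSL CfsgLib.GW.PGLTwo CfsgLib.GW.AutL

variable {p : ℕ} [hp : Fact p.Prime]

local notation "L₂" => Matrix.ProjectiveSpecialLinearGroup (Fin 2) (ZMod p)
local notation "A" => toAutHom (n := 2) (F := ZMod p)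

/-- Every automorphism of `PSL₂(p)` comes from `PGL₂(p)`. -/
theorem mem_range (α : MulAut L₂) : α ∈ (A).range := by
  haveI : Subsingleton (ZMod p ≃+* ZMod p) := ⟨fun a b => RingEquiv.ext fun x =>
    DFunLike.congr_fun (Subsingleton.elim (a : ZMod p →+* ZMod p) (b : ZMod p →+* ZMod p)) x⟩
  exact fieldPart_eq_one_iff.1 (Subsingleton.elim _ _)

theorem two_ne_zero' (h5 : 5 ≤ p) : (2 : ZMod p) ≠ 0 := by
  intro h
  have h' : ((2 : ℕ) : ZMod p) = 0 := by exact_mod_cast h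
  rw [ZMod.natCast_eq_zero_iff] at h'
  have := (Nat.prime_dvd_prime_iff_eq hp.out Nat.prime_two).1 h'
  omega

/-- Exactly half of the centraliser of an involution of `PGL₂` is inner. -/
theorem card_inn_inf (h2 : (2 : ZMod p) ≠ 0) {g : GL (Fin 2) (ZMod p)}
    (hg : (g : Matrix (Fin 2) (Fin 2) (ZMod p)).trace = 0) :
    2 * Nat.card (PSL.D g ⊓ innG (ZMod p) : Subgroup _) = Nat.card (PSL.D g) := by
  refine le_antisymm ?_ (PSL.card_D_le_two_mul h2 g)
  obtain ⟨ν, hν0, hν⟩ := exists_nonsq h2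
  obtain ⟨x, y, hxy⟩ := exists_norm_eq h2 (det_ne_zero g) ν
  have hd : (x • (1 : Matrix (Fin 2) (Fin 2) (ZMod p)) + y • (g : Matrix (Fin 2) (Fin 2) (ZMod p))).det = ν := by
    rw [det_add_smul h2 hg, hxy]
  let P : GL (Fin 2) (ZMod p) := Matrix.GeneralLinearGroup.mkOfDetNeZero _ (hd ▸ hν0)
  have hPg : (P : Matrix (Fin 2) (Fin 2) (ZMod p)) * (g : Matrix (Fin 2) (Fin 2) (ZMod p)) =
      (g : Matrix (Fin 2) (Fin 2) (ZMod p)) * (P : Matrix (Fin 2) (Fin 2) (ZMod p)) := by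
    show (x • (1 : Matrix (Fin 2) (Fin 2) (ZMod p)) + y • (g : Matrix (Fin 2) (Fin 2) (ZMod p))) *
      (g : Matrix (Fin 2) (Fin 2) (ZMod p)) =
      _ * (x • (1 : Matrix (Fin 2) (Fin 2) (ZMod p)) + y • (g : Matrix (Fin 2) (Fin 2) (ZMod p)))
    simp [Matrix.mul_add, Matrix.add_mul]
  have hP : A P ∈ PSL.D g :=
    ⟨⟨P, rfl⟩, Subgroup.mem_centralizer_singleton_iff.2 ((commute_A_iff h2 hg).2 (Or.inl hPg))⟩
  have hPn : A P ∉ innG (ZMod p) := fun h => by
    have hd' : (P : Matrix (Fin 2) (Fin 2) (ZMod p)).det = ν := hd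
    rw [A_mem_inn_iff, hd'] at h
    exact hν h
  obtain ⟨k, hk⟩ := Subgroup.card_dvd_of_le (inf_le_left : PSL.D g ⊓ innG (ZMod p) ≤ PSL.D g)
  have hk1 : k ≠ 1 := fun e => hPn ((Subgroup.eq_of_le_of_card_ge inf_le_left
    (by rw [hk, e, mul_one])).ge hP).2
  have hk0 : k ≠ 0 := fun e => by
    have := Nat.card_pos (α := PSL.D g)
    rw [hk, e, mul_zero] at this
    omega
  rw [hk, mul_comm]
  exact Nat.mul_le_mul_left _ (by omega)

theorem conj_injective (h5 : 5 ≤ p) : Function.Injective (MulAut.conj (G := L₂)) := by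
  rw [injective_iff_map_eq_one]
  intro l hl
  have hc : l ∈ Subgroup.center L₂ := Subgroup.mem_center_iff.2 fun x => by
    have h : l * x * l⁻¹ = x := DFunLike.congr_fun hl x
    exact (mul_inv_eq_iff_eq_mul.1 h).symm
  rwa [AlmostCyclic.PSLTwo.center_eq_bot h5, Subgroup.mem_bot] at hc

/-- The elements fixed by an automorphism. -/
theorem card_fixed (h5 : 5 ≤ p) (α : MulAut L₂) :
    Nat.card {l : L₂ // α l = l} =
      Nat.card (innG (ZMod p) ⊓ Subgroup.centralizer {α} : Subgroup (MulAut L₂)) := by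
  have hc : ∀ l : L₂, α * MulAut.conj l * α⁻¹ = MulAut.conj (α l) := fun l => by
    ext x
    simp
  let e : {l : L₂ // α l = l} → (innG (ZMod p) ⊓ Subgroup.centralizer {α} : Subgroup (MulAut L₂)) :=
    fun l => ⟨MulAut.conj l.1, ⟨l.1, rfl⟩, Subgroup.mem_centralizer_singleton_iff.2 (by
      have h := hc l.1
      rw [l.2, mul_inv_eq_iff_eq_mul] at h
      exact h.symm)⟩
  refine Nat.card_eq_of_bijective e ⟨fun l l' h => Subtype.ext (conj_injective h5 (congrArg Subtype.val h)),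
    ?_⟩
  rintro ⟨β, ⟨l, rfl⟩, hβ⟩
  refine ⟨⟨l, conj_injective h5 ?_⟩, rfl⟩
  rw [← hc]
  exact mul_inv_eq_iff_eq_mul.2 (Subgroup.mem_centralizer_singleton_iff.1 hβ).symm

/-- The orders of the two centralisers and of the centraliser of a four-group. -/
theorem counts (h5 : 5 ≤ p) (z t : L₂) (hz : z * z = 1) (hz1 : z ≠ 1) (ht : t * t = 1) (ht1 : t ≠ 1)
    (hzt : z * t = t * z) (hne : t ≠ z) (α : MulAut L₂) (hα : α * α = 1) (hαo : α ∉ innG (ZMod p)) :
    Nat.card (Subgroup.centralizer ({z, t} : Set L₂)) ≤ 4 ∧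
      ((Nat.card (Subgroup.centralizer ({z} : Set L₂)) + 1 = p ∧ Nat.card {l : L₂ // α l = l} = p + 1) ∨
        (Nat.card (Subgroup.centralizer ({z} : Set L₂)) = p + 1 ∧ Nat.card {l : L₂ // α l = l} + 1 = p)) := by
  classical
  have h2 := two_ne_zero' (p := p) h5
  have hord : ∀ l : L₂, l * l = 1 → l ≠ 1 → orderOf (MulAut.conj l) = 2 := fun l h h1 => by
    rw [orderOf_injective _ (conj_injective h5)]
    exact orderOf_eq_prime (by rw [pow_two, h]) h1
  obtain ⟨g, hg⟩ := mem_range (MulAut.conj z)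
  obtain ⟨h, hh⟩ := mem_range (MulAut.conj t)
  obtain ⟨a, rfl⟩ := mem_range α
  have hgt : (g : Matrix (Fin 2) (Fin 2) (ZMod p)).trace = 0 := (orderOf_A_iff h2).1 (hg ▸ hord z hz hz1)
  have hht : (h : Matrix (Fin 2) (Fin 2) (ZMod p)).trace = 0 := (orderOf_A_iff h2).1 (hh ▸ hord t ht ht1)
  have hat : (a : Matrix (Fin 2) (Fin 2) (ZMod p)).trace = 0 := (orderOf_A_iff h2).1
    (orderOf_eq_prime (by rw [pow_two, hα]) fun e => hαo (e ▸ one_mem _))
  have hcz : Nat.card (Subgroup.centralizer ({z} : Set L₂)) =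
      Nat.card (PSL.D g ⊓ innG (ZMod p) : Subgroup _) := by
    have hfix : Nat.card (Subgroup.centralizer ({z} : Set L₂)) =
        Nat.card {l : L₂ // MulAut.conj z l = l} :=
      Nat.card_congr (Equiv.subtypeEquivRight fun l => by
        rw [Subgroup.mem_centralizer_singleton_iff, MulAut.conj_apply, mul_inv_eq_iff_eq_mul, eq_comm])
    rw [hfix, card_fixed h5, ← hg]
    refine congrArg (fun K : Subgroup _ => Nat.card K) ?_
    rw [inf_comm (PSL.D g)]
    exact le_antisymm (le_inf inf_le_left (le_inf (fun x _ => mem_range x) inf_le_right))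
      (le_inf inf_le_left (inf_le_right.trans inf_le_right))
  have hca : Nat.card {l : L₂ // A a l = l} = Nat.card (PSL.D a ⊓ innG (ZMod p) : Subgroup _) := by
    rw [card_fixed h5]
    refine congrArg (fun K : Subgroup _ => Nat.card K) ?_
    rw [inf_comm (PSL.D a)]
    exact le_antisymm (le_inf inf_le_left (le_inf (fun x _ => mem_range x) inf_le_right))
      (le_inf inf_le_left (inf_le_right.trans inf_le_right))
  refine ⟨?_, ?_⟩
  · have hanti := anti_of_ne h2 hgt hht (fun e => hne (conj_injective h5 (by rw [← hg, ← hh, e])))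
      (by rw [hg, hh, ← map_mul, ← map_mul, hzt])
    rw [← card_centralizer_four h2 hgt hanti]
    refine Nat.card_le_card_of_injective (fun l => ⟨MulAut.conj l.1, mem_range _,
      Subgroup.mem_centralizer_iff.2 ?_⟩) fun l l' e => Subtype.ext (conj_injective h5 (congrArg Subtype.val e))
    rintro y (rfl | rfl)
    · rw [hg, ← map_mul, ← map_mul, Subgroup.mem_centralizer_iff.1 l.2 z (by simp)]
    · rw [hh, ← map_mul, ← map_mul, Subgroup.mem_centralizer_iff.1 l.2 t (by simp)]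
  have hga : IsSquare (g : Matrix (Fin 2) (Fin 2) (ZMod p)).det := A_mem_inn_iff.1 ⟨z, hg.symm⟩
  have han : ¬ IsSquare (a : Matrix (Fin 2) (Fin 2) (ZMod p)).det := fun e => hαo (A_mem_inn_iff.2 e)
  have hneg : IsSquare (-(a : Matrix (Fin 2) (Fin 2) (ZMod p)).det) ↔
      ¬ IsSquare (-(g : Matrix (Fin 2) (Fin 2) (ZMod p)).det) := by
    rw [← neg_one_mul, ← neg_one_mul (g : Matrix (Fin 2) (Fin 2) (ZMod p)).det,
      isSquare_mul_iff (neg_ne_zero.2 one_ne_zero) (det_ne_zero a),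
      isSquare_mul_iff (neg_ne_zero.2 one_ne_zero) (det_ne_zero g)]
    tauto
  have e1 := card_inn_inf h2 hgt
  have e2 := card_inn_inf h2 hat
  rw [hcz, hca]
  by_cases hs : IsSquare (-(g : Matrix (Fin 2) (Fin 2) (ZMod p)).det)
  · rw [(PSL.card_D h2 hgt).1 hs, ZMod.card] at e1
    rw [(PSL.card_D h2 hat).2 (fun e => hneg.1 e hs), ZMod.card] at e2
    exact Or.inl ⟨by omega, by omega⟩
  · rw [(PSL.card_D h2 hgt).2 hs, ZMod.card] at e1
    rw [(PSL.card_D h2 hat).1 (hneg.2 hs), ZMod.card] at e2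
    exact Or.inr ⟨by omega, by omega⟩

end CfsgLib.Jordan.SD.Psl
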